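import Mathlib

/-! Localizations of quotients `S⁻¹(A ⧸ K)` of a ring, ordered by `(K, S)`. -/

set_option autoImplicit false

universe u

namespace Groth.Agent.FieldPtLib

variable {A : Type u} [CommRing A] (K : Ideal A) (S : Submonoid A)

/-- The ring `S⁻¹(A ⧸ K)`. -/
abbrev Loc : Type u := Localization (S.map (Ideal.Quotient.mk K))

/-- The structure map of `S⁻¹(A ⧸ K)`. -/
def q : A →+* Loc K S := (algebraMap (A ⧸ K) (Loc K S)).comp (Ideal.Quotient.mk K)

theorem q_eq_zero {a : A} (ha : a ∈ K) : q K S a = 0 := by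
  simp [q, Ideal.Quotient.eq_zero_iff_mem.mpr ha]

theorem q_isUnit {s : A} (hs : s ∈ S) : IsUnit (q K S s) :=
  IsLocalization.map_units (Loc K S) (⟨_, Submonoid.mem_map_of_mem _ hs⟩ : S.map (Ideal.Quotient.mk K))

theorem exists_eq (x : Loc K S) : ∃ (a s : A), s ∈ S ∧ x * q K S s = q K S a := by
  obtain ⟨⟨b, ⟨_, s, hs, rfl⟩⟩, h⟩ := IsLocalization.surj (S.map (Ideal.Quotient.mk K)) x
  obtain ⟨a, rfl⟩ := Ideal.Quotient.mk_surjective b
  exact ⟨a, s, hs, h⟩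

theorem exists_factor {C : Type*} [CommRing C] (φ : A →+* C) (hK : ∀ a ∈ K, φ a = 0)
    (hS : ∀ s ∈ S, IsUnit (φ s)) : ∃ ψ : Loc K S →+* C, ψ.comp (q K S) = φ := by
  refine ⟨IsLocalization.lift (M := S.map (Ideal.Quotient.mk K)) (g := Ideal.Quotient.lift K φ hK) ?_, ?_⟩
  · rintro ⟨_, s, hs, rfl⟩
    exact (Ideal.Quotient.lift_mk K φ hK).symm ▸ hS s hs
  · rw [q, ← RingHom.comp_assoc, IsLocalization.lift_comp, Ideal.Quotient.lift_comp_mk]

theorem hom_ext {C : Type*} [CommRing C] {f g : Loc K S →+* C} (h : f.comp (q K S) = g.comp (q K S)) : f = g := by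
  refine IsLocalization.ringHom_ext (S.map (Ideal.Quotient.mk K)) (Ideal.Quotient.ringHom_ext ?_)
  simpa [q, RingHom.comp_assoc] using h

theorem nontrivial (h : ∀ s ∈ S, s ∉ K) : Nontrivial (Loc K S) := by
  rw [← not_subsingleton_iff_nontrivial]
  intro hsub
  have h0 : (0 : A ⧸ K) ∈ S.map (Ideal.Quotient.mk K) :=
    (IsLocalization.subsingleton_iff (M := S.map (Ideal.Quotient.mk K)) (S := Loc K S)).mp hsub
  obtain ⟨s, hs, h0⟩ := h0
  exact h s hs (Ideal.Quotient.eq_zero_iff_mem.mp h0)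

theorem isUnit_of_sup {a : A} {s : A} (hs : s ∈ S) (h : s ∈ K ⊔ Ideal.span {a}) : IsUnit (q K S a) := by
  obtain ⟨k, hk, b, hb, hkb⟩ := Submodule.mem_sup.mp h
  obtain ⟨c, rfl⟩ := Ideal.mem_span_singleton'.mp hb
  have := q_isUnit K S hs
  rw [← hkb, map_add, q_eq_zero K S hk, zero_add, map_mul] at this
  exact isUnit_of_mul_isUnit_right this

theorem isNilpotent_of_sup {a : A} {s : A} (hs : s ∈ S ⊔ Submonoid.powers a) (h : s ∈ K) :
    IsNilpotent (q K S a) := by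
  obtain ⟨t, ht, _, ⟨n, rfl⟩, rfl⟩ := Submonoid.mem_sup.mp hs
  refine ⟨n, (q_isUnit K S ht).mul_right_eq_zero.mp ?_⟩
  rw [← map_pow, ← map_mul]
  exact q_eq_zero K S h

theorem bijective_q_bot : Function.Bijective (q (⊥ : Ideal A) (⊥ : Submonoid A)) := by
  obtain ⟨ψ, hψ⟩ := exists_factor (⊥ : Ideal A) (⊥ : Submonoid A) (RingHom.id A)
    (fun a ha => by simpa using ha) (fun s hs => by simp [Submonoid.mem_bot.mp hs])
  have h2 : (q (⊥ : Ideal A) (⊥ : Submonoid A)).comp ψ = RingHom.id _ := hom_ext _ _ (by rw [RingHom.comp_assoc, hψ]; rfl)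
  exact Function.bijective_iff_has_inverse.mpr ⟨ψ, RingHom.congr_fun hψ, RingHom.congr_fun h2⟩

theorem isField {K : Ideal A} {S : Submonoid A} (h : ∀ s ∈ S, s ∉ K)
    (hq : ∀ a, q K S a = 0 ∨ IsUnit (q K S a)) : IsField (Loc K S) := by
  haveI := nontrivial K S h
  refine ⟨⟨0, 1, zero_ne_one⟩, mul_comm, fun {x} hx => ?_⟩
  obtain ⟨a, s, hs, hxa⟩ := exists_eq K S x
  rcases hq a with h0 | hu
  · exact absurd ((q_isUnit K S hs).mul_left_eq_zero.mp (hxa.trans h0)) hx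
  · exact isUnit_iff_exists_inv.mp (isUnit_of_mul_isUnit_left (hxa ▸ hu))

end Groth.Agent.FieldPtLib
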