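import Groth.Agent.FieldPtLib.Algebra

/-! A property of schemes over `T` which passes to limits and to closed or open pieces holds at a field point. -/

set_option autoImplicit false
set_option linter.style.haveILetI false

universe u

open CategoryTheory CategoryTheory.Limits AlgebraicGeometry Opposite

namespace Groth.Agent.FieldPtLib

variable {A : Type u} [CommRing A]

/-- `Spec (S⁻¹(A ⧸ K)) ⟶ Spec A`. -/
noncomputable def j (K : Ideal A) (S : Submonoid A) : Spec (CommRingCat.of (Loc K S)) ⟶ Spec (CommRingCat.of A) :=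
  Spec.map (CommRingCat.ofHom (q K S))

theorem j_range (K : Ideal A) (S : Submonoid A) :
    Set.range (j K S).base = Set.range (PrimeSpectrum.comap (q K S)) := rfl

instance (K : Ideal A) (S : Submonoid A) : Mono (j K S) := by
  have h1 : IsPreimmersion (Spec.map (CommRingCat.ofHom (algebraMap (A ⧸ K) (Loc K S)))) :=
    IsPreimmersion.of_isLocalization (S.map (Ideal.Quotient.mk K))
  have h2 : IsClosedImmersion (Spec.map (CommRingCat.ofHom (Ideal.Quotient.mk K))) :=
    IsClosedImmersion.spec_of_surjective _ Ideal.Quotient.mk_surjective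
  rw [j, q, show CommRingCat.ofHom ((algebraMap (A ⧸ K) (Loc K S)).comp (Ideal.Quotient.mk K)) =
    CommRingCat.ofHom (Ideal.Quotient.mk K) ≫ CommRingCat.ofHom (algebraMap (A ⧸ K) (Loc K S)) from rfl, Spec.map_comp]
  infer_instance

variable {K K' : Ideal A} {S S' : Submonoid A}

theorem exists_trans (hK : K ≤ K') (hS : S ≤ S') : ∃ ψ : Loc K S →+* Loc K' S', ψ.comp (q K S) = q K' S' :=
  exists_factor K S _ (fun _ ha => q_eq_zero K' S' (hK ha)) (fun _ hs => q_isUnit K' S' (hS hs))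

/-- A morphism to `Spec A` factors through `Spec (S⁻¹(A ⧸ K))` exactly when it kills `K` and inverts `S`. -/
theorem exists_lift {W : Scheme.{u}} (g : W ⟶ Spec (CommRingCat.of A))
    (hK : ∀ a ∈ K, ((Scheme.ΓSpecIso (CommRingCat.of A)).inv ≫ g.appTop).hom a = 0)
    (hS : ∀ s ∈ S, IsUnit (((Scheme.ΓSpecIso (CommRingCat.of A)).inv ≫ g.appTop).hom s)) :
    ∃ f : W ⟶ Spec (CommRingCat.of (Loc K S)), f ≫ j K S = g := by
  obtain ⟨ψ, hψ⟩ := exists_factor K S _ hK hS
  refine ⟨W.toSpecΓ ≫ Spec.map (CommRingCat.ofHom ψ), ?_⟩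
  rw [Category.assoc, j, ← Spec.map_comp, ← CommRingCat.ofHom_comp, hψ]
  simp [← Scheme.toSpecΓ_naturality_assoc]

theorem appTop_lift {W : Scheme.{u}} (f : W ⟶ Spec (CommRingCat.of (Loc K S))) (a : A) :
    ((Scheme.ΓSpecIso (CommRingCat.of A)).inv ≫ (f ≫ j K S).appTop).hom a =
      ((Scheme.ΓSpecIso (CommRingCat.of (Loc K S))).inv ≫ f.appTop).hom (q K S a) := by
  have h : (Scheme.ΓSpecIso (CommRingCat.of A)).inv ≫ (j K S).appTop =
      CommRingCat.ofHom (q K S) ≫ (Scheme.ΓSpecIso (CommRingCat.of (Loc K S))).inv :=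
    (Scheme.ΓSpecIso_inv_naturality _).symm
  rw [Scheme.Hom.comp_appTop, reassoc_of% h]
  rfl

section Zorn

variable {T : Scheme.{u}} (a : Spec (CommRingCat.of A) ⟶ T)
  (P : ∀ ⦃T' : Scheme.{u}⦄, (T' ⟶ T) → Prop)

/-- The pairs `(K, S)` to which Zorn is applied. -/
def Good : Set (Ideal A × Submonoid A) :=
  {x | (∀ s ∈ x.2, s ∉ x.1) ∧ P (j x.1 x.2 ≫ a)}

theorem chain_bound
    (h2 : ∀ ⦃I : Type u⦄ [SmallCategory I] [IsCofiltered I] (D : I ⥤ Over T) (c : Limits.Cone D) (_ : Limits.IsLimit c),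
      (∀ (i j : I) (m : i ⟶ j), IsAffineHom (D.map m).left) →
      (∀ i, CompactSpace (D.obj i).left ∧ QuasiSeparatedSpace (D.obj i).left) →
      (∀ i, P (D.obj i).hom) → P c.pt.hom)
    (C : Set (Ideal A × Submonoid A)) (hC : C ⊆ Good a P) (hch : IsChain (· ≤ ·) C) (hne : C.Nonempty) :
    ∃ ub ∈ Good a P, ∀ z ∈ C, z ≤ ub := by
  classical
  haveI : Nonempty C := hne.to_subtype
  haveI : IsDirectedOrder C := ⟨fun x y => by
    rcases hch.total x.2 y.2 with h | h
    · exact ⟨y, h, le_rfl⟩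
    · exact ⟨x, le_rfl, h⟩⟩
  have hdK : Directed (· ≤ ·) fun i : C => i.1.1 := fun x y => by
    obtain ⟨z, hx, hy⟩ := exists_ge_ge x y; exact ⟨z, hx.1, hy.1⟩
  have hdS : Directed (· ≤ ·) fun i : C => i.1.2 := fun x y => by
    obtain ⟨z, hx, hy⟩ := exists_ge_ge x y; exact ⟨z, hx.2, hy.2⟩
  let Ks : Ideal A := ⨆ i : C, i.1.1
  let Ss : Submonoid A := ⨆ i : C, i.1.2
  have htr : ∀ {i k : C}, i ≤ k → ∃ f : Spec (CommRingCat.of (Loc k.1.1 k.1.2)) ⟶ Spec (CommRingCat.of (Loc i.1.1 i.1.2)),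
      f ≫ j i.1.1 i.1.2 = j k.1.1 k.1.2 := fun {i k} h => by
    obtain ⟨ψ, hψ⟩ := exists_trans (S := i.1.2) (S' := k.1.2) h.1 h.2
    exact ⟨Spec.map (CommRingCat.ofHom ψ), by rw [j, ← Spec.map_comp, ← CommRingCat.ofHom_comp, hψ]; rfl⟩
  choose tr htr using @htr
  let D : Cᵒᵖ ⥤ Over T :=
    { obj := fun i => Over.mk (j i.unop.1.1 i.unop.1.2 ≫ a)
      map := fun {i k} m => Over.homMk (tr (leOfHom m.unop)) (by simp [reassoc_of% (htr (leOfHom m.unop))])
      map_id := fun i => by ext1; simp [← cancel_mono (j i.unop.1.1 i.unop.1.2), htr]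
      map_comp := fun {i k l} m n => by ext1; simp [← cancel_mono (j l.unop.1.1 l.unop.1.2), htr] }
  have hto : ∀ i : C, ∃ f : Spec (CommRingCat.of (Loc Ks Ss)) ⟶ Spec (CommRingCat.of (Loc i.1.1 i.1.2)),
      f ≫ j i.1.1 i.1.2 = j Ks Ss := fun i => by
    obtain ⟨ψ, hψ⟩ := exists_trans (S := i.1.2) (S' := Ss) (le_iSup (fun i : C => i.1.1) i) (le_iSup (fun i : C => i.1.2) i)
    exact ⟨Spec.map (CommRingCat.ofHom ψ), by rw [j, ← Spec.map_comp, ← CommRingCat.ofHom_comp, hψ]; rfl⟩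
  choose to' hto' using hto
  let c : Cone D :=
    { pt := Over.mk (j Ks Ss ≫ a)
      π :=
        { app := fun i => Over.homMk (to' i.unop) (by simp [D, reassoc_of% (hto' i.unop)])
          naturality := fun i k m => by
            ext1
            simp [D, ← cancel_mono (j k.unop.1.1 k.unop.1.2), htr, hto'] } }
  obtain ⟨i₀⟩ := (inferInstance : Nonempty C)
  have hg : ∀ (s : Cone D) (i : C), (s.π.app (op i)).left ≫ j i.1.1 i.1.2 =
      (s.π.app (op i₀)).left ≫ j i₀.1.1 i₀.1.2 := fun s i => by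
    obtain ⟨z, hi, h0⟩ := exists_ge_ge i i₀
    have e : ∀ {i : C} (h : i ≤ z), (s.π.app (op i)).left ≫ j i.1.1 i.1.2 = (s.π.app (op z)).left ≫ j z.1.1 z.1.2 :=
      fun {i} h => by
        have h1 := congrArg (fun φ => Over.Hom.left φ) (s.w (homOfLE h).op)
        simp only [Over.comp_left] at h1
        rw [← h1]
        simp [D, htr]
    rw [e hi, e h0]
  have hlift : ∀ s : Cone D, ∃ f : s.pt.left ⟶ Spec (CommRingCat.of (Loc Ks Ss)),
      f ≫ j Ks Ss = (s.π.app (op i₀)).left ≫ j i₀.1.1 i₀.1.2 := fun s => by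
    refine exists_lift _ (fun x hx => ?_) (fun x hx => ?_)
    · obtain ⟨i, hi⟩ := (Submodule.mem_iSup_of_directed _ hdK).mp hx
      rw [← hg s i, appTop_lift, q_eq_zero _ _ hi, map_zero]
    · obtain ⟨i, hi⟩ := (Submonoid.mem_iSup_of_directed hdS).mp hx
      rw [← hg s i, appTop_lift]
      exact (q_isUnit _ _ hi).map _
  choose lift' hlift' using hlift
  have hc : IsLimit c :=
    { lift := fun s => Over.homMk (lift' s) (by
        have := Over.w (s.π.app (op i₀))
        simp only [D, Over.mk_hom, Functor.id_obj] at this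
        simp [c, reassoc_of% (hlift' s)]
        exact this)
      fac := fun s i => by
        ext1
        simp [c, ← cancel_mono (j i.unop.1.1 i.unop.1.2), hto', hlift']
        exact (hg s i.unop).symm
      uniq := fun s m hm => by
        ext1
        simp [← cancel_mono (j Ks Ss), hlift']
        rw [← hm (op i₀)]
        simp [c, hto'] }
  refine ⟨(Ks, Ss), ⟨fun s hs hk => ?_, ?_⟩, fun z hz => ⟨le_iSup (fun i : C => i.1.1) ⟨z, hz⟩, le_iSup (fun i : C => i.1.2) ⟨z, hz⟩⟩⟩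
  · obtain ⟨i, hi⟩ := (Submonoid.mem_iSup_of_directed hdS).mp hs
    obtain ⟨k, hk⟩ := (Submodule.mem_iSup_of_directed _ hdK).mp hk
    obtain ⟨z, hiz, hkz⟩ := exists_ge_ge i k
    exact (hC z.2).1 s (hiz.2 hi) (hkz.1 hk)
  · exact h2 D c hc (fun i k m => inferInstanceAs (IsAffineHom (tr (leOfHom m.unop))))
      (fun i => ⟨inferInstanceAs (CompactSpace (Spec (CommRingCat.of (Loc i.unop.1.1 i.unop.1.2)))),
        inferInstanceAs (QuasiSeparatedSpace (Spec (CommRingCat.of (Loc i.unop.1.1 i.unop.1.2))))⟩)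
      (fun i => (hC i.unop.2).2)

theorem exists_field [Nontrivial A]
    (h1 : ∀ ⦃T' T'' : Scheme.{u}⦄ (a : T' ⟶ T) (t : T'' ⟶ T') [IsClosedImmersion t] [Surjective t]
      [CompactSpace T'] [QuasiSeparatedSpace T'] [CompactSpace T''] [QuasiSeparatedSpace T''], P (t ≫ a) ↔ P a)
    (h2 : ∀ ⦃I : Type u⦄ [SmallCategory I] [IsCofiltered I] (D : I ⥤ Over T) (c : Limits.Cone D) (_ : Limits.IsLimit c),
      (∀ (i j : I) (m : i ⟶ j), IsAffineHom (D.map m).left) →
      (∀ i, CompactSpace (D.obj i).left ∧ QuasiSeparatedSpace (D.obj i).left) →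
      (∀ i, P (D.obj i).hom) → P c.pt.hom)
    (h3 : ∀ ⦃T' Z V : Scheme.{u}⦄ (a : T' ⟶ T) [CompactSpace T'] [QuasiSeparatedSpace T'] (i : Z ⟶ T') [IsClosedImmersion i]
      (j : V ⟶ T') [IsOpenImmersion j] [CompactSpace V], Set.range j = (Set.range i)ᶜ → P a → P (j ≫ a) ∨ P (i ≫ a))
    (hA : P a) :
    ∃ (k : Type u) (_ : Field k) (t : Spec (CommRingCat.of k) ⟶ T), P t := by
  have hbase : ((⊥ : Ideal A), (⊥ : Submonoid A)) ∈ Good a P := by
    refine ⟨fun s hs h => ?_, ?_⟩
    · rw [Submonoid.mem_bot.mp hs] at h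
      exact one_ne_zero (Ideal.mem_bot.mp h)
    · haveI : IsIso (CommRingCat.ofHom (q (⊥ : Ideal A) (⊥ : Submonoid A))) :=
        (ConcreteCategory.isIso_iff_bijective _).mpr bijective_q_bot
      haveI : IsIso (j (⊥ : Ideal A) (⊥ : Submonoid A)) :=
        inferInstanceAs (IsIso (Spec.map (CommRingCat.ofHom (q (⊥ : Ideal A) (⊥ : Submonoid A)))))
      exact (h1 a (j (⊥ : Ideal A) (⊥ : Submonoid A))).mpr hA
  obtain ⟨⟨K, S⟩, -, hmem, hmax⟩ := zorn_le_nonempty₀ (Good a P)
    (fun C hC hch y hy => chain_bound a P h2 C hC hch ⟨y, hy⟩) _ hbase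
  obtain ⟨hdis, hP⟩ := hmem
  refine ⟨Loc K S, (isField hdis fun x => ?_).toField, j K S ≫ a, hP⟩
  by_contra hx
  rw [not_or] at hx
  obtain ⟨hx0, hxu⟩ := hx
  let K' := K ⊔ Ideal.span {x}
  have hK' : ∀ s ∈ S, s ∉ K' := fun s hs hsK => hxu (isUnit_of_sup K S hs hsK)
  obtain ⟨ψ, hψ⟩ := exists_trans (S := S) (S' := S) (le_sup_left : K ≤ K') le_rfl
  let i := Spec.map (CommRingCat.ofHom ψ)
  haveI : IsClosedImmersion i := IsClosedImmersion.spec_of_surjective _ fun y => by
    obtain ⟨b, s, hs, hy⟩ := exists_eq K' S y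
    refine ⟨q K S b * ↑(q_isUnit K S hs).unit⁻¹, (q_isUnit K' S hs).mul_left_inj.mp ?_⟩
    show ψ (q K S b * ↑(q_isUnit K S hs).unit⁻¹) * q K' S s = y * q K' S s
    rw [hy, ← RingHom.congr_fun hψ s, RingHom.comp_apply, ← map_mul, mul_assoc, IsUnit.val_inv_mul, mul_one,
      ← RingHom.congr_fun hψ b, RingHom.comp_apply]
  have hi : i ≫ j K S = j K' S := by
    rw [j, ← Spec.map_comp, ← CommRingCat.ofHom_comp, hψ]; rfl
  have hnot : ¬ P (i ≫ j K S ≫ a) := fun h => by
    rw [reassoc_of% hi] at h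
    have hg : (K', S) ∈ Good a P := ⟨hK', h⟩
    exact hx0 (q_eq_zero K S ((hmax hg (⟨le_sup_left, le_rfl⟩ : (K, S) ≤ (K', S))).1 (Submodule.mem_sup_right (Ideal.mem_span_singleton_self x))))
  have hker : Set.range (PrimeSpectrum.comap ψ) = PrimeSpectrum.zeroLocus {q K S x} := by
    refine Set.Subset.antisymm ?_ fun p hp => ?_
    · rintro _ ⟨p, rfl⟩
      rw [PrimeSpectrum.mem_zeroLocus, Set.singleton_subset_iff]
      show ψ (q K S x) ∈ p.asIdeal
      rw [show ψ (q K S x) = q K' S x from RingHom.congr_fun hψ x,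
        q_eq_zero K' S (Submodule.mem_sup_right (Ideal.mem_span_singleton_self x))]
      exact zero_mem _
    · rw [PrimeSpectrum.mem_zeroLocus, Set.singleton_subset_iff] at hp
      obtain ⟨ρ, hρ⟩ := exists_factor K' S ((Ideal.Quotient.mk p.asIdeal).comp (q K S)) (fun b hb => by
          obtain ⟨k, hk, c, hc, rfl⟩ := Submodule.mem_sup.mp hb
          obtain ⟨d, rfl⟩ := Ideal.mem_span_singleton'.mp hc
          rw [RingHom.comp_apply, map_add (q K S), q_eq_zero K S hk, zero_add, map_mul (q K S)]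
          exact Ideal.Quotient.eq_zero_iff_mem.mpr (Ideal.mul_mem_left _ _ hp))
        (fun s hs => by simpa using (q_isUnit K S hs).map (Ideal.Quotient.mk p.asIdeal))
      refine ⟨⟨RingHom.ker ρ, RingHom.ker_isPrime ρ⟩, PrimeSpectrum.ext ?_⟩
      have : ρ.comp ψ = Ideal.Quotient.mk p.asIdeal := hom_ext K S (by rw [RingHom.comp_assoc, hψ, hρ])
      show (RingHom.ker ρ).comap ψ = p.asIdeal
      rw [RingHom.comap_ker, this, Ideal.mk_ker]
  by_cases hnil : IsNilpotent (q K S x)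
  · haveI : Surjective i := ⟨Set.range_eq_univ.mp (by
      show Set.range (PrimeSpectrum.comap ψ) = Set.univ
      rw [hker, Set.eq_univ_iff_forall]
      intro p
      rw [PrimeSpectrum.mem_zeroLocus, Set.singleton_subset_iff]
      exact nilradical_le_prime p.asIdeal hnil)⟩
    exact hnot ((h1 (j K S ≫ a) i).mpr hP)
  · let L := Localization.Away (q K S x)
    let o := Spec.map (CommRingCat.ofHom (algebraMap (Loc K S) L))
    haveI : IsOpenImmersion o := IsOpenImmersion.of_isLocalization (q K S x)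
    have ho : Set.range o = (Set.range i)ᶜ := by
      show Set.range (PrimeSpectrum.comap (algebraMap (Loc K S) L)) = (Set.range (PrimeSpectrum.comap ψ))ᶜ
      rw [hker, ← PrimeSpectrum.basicOpen_eq_zeroLocus_compl]
      exact PrimeSpectrum.localization_away_comap_range L (q K S x)
    rcases h3 (j K S ≫ a) i o ho hP with h | h
    · let S' := S ⊔ Submonoid.powers x
      have hS' : ∀ s ∈ S', s ∉ K := fun s hs hsK => hnil (isNilpotent_of_sup K S hs hsK)
      obtain ⟨φ, hφ⟩ := exists_trans (K := K) (K' := K) le_rfl (le_sup_left : S ≤ S')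
      have hu : IsUnit (φ (q K S x)) := by
        rw [show φ (q K S x) = q K S' x from RingHom.congr_fun hφ x]
        exact q_isUnit K S' (Submonoid.mem_sup_right (Submonoid.mem_powers x))
      let e₁ : L →+* Loc K S' := IsLocalization.Away.lift (q K S x) hu
      have he₁ : e₁.comp (algebraMap (Loc K S) L) = φ := IsLocalization.Away.lift_comp _ _
      obtain ⟨e₂, he₂⟩ := exists_factor K S' ((algebraMap (Loc K S) L).comp (q K S))
        (fun b hb => by simp [q_eq_zero K S hb])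
        (fun s hs => by
          obtain ⟨t, ht, _, ⟨n, rfl⟩, rfl⟩ := Submonoid.mem_sup.mp hs
          simp only [RingHom.comp_apply, map_mul, map_pow]
          exact ((q_isUnit K S ht).map _).mul ((IsLocalization.Away.algebraMap_isUnit (q K S x)).pow n))
      have h12 : e₁.comp e₂ = RingHom.id _ := hom_ext K S' (by
        rw [RingHom.comp_assoc, he₂, ← RingHom.comp_assoc, he₁, hφ]; rfl)
      have h21 : e₂.comp e₁ = RingHom.id _ := IsLocalization.ringHom_ext (Submonoid.powers (q K S x)) (hom_ext K S (by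
        have : e₁.comp ((algebraMap (Loc K S) L).comp (q K S)) = q K S' := by rw [← RingHom.comp_assoc, he₁, hφ]
        rw [RingHom.comp_assoc, RingHom.comp_assoc, this, he₂]; rfl))
      haveI : IsIso (CommRingCat.ofHom e₁) := ⟨CommRingCat.ofHom e₂, CommRingCat.hom_ext h21, CommRingCat.hom_ext h12⟩
      let e := Spec.map (CommRingCat.ofHom e₁)
      have he : e ≫ o ≫ j K S = j K S' := by
        simp only [e, o, j]
        rw [← Spec.map_comp, ← Spec.map_comp, ← CommRingCat.ofHom_comp, ← CommRingCat.ofHom_comp, ← RingHom.comp_assoc, he₁, hφ]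
      have h' := (h1 (o ≫ j K S ≫ a) e).mpr h
      rw [reassoc_of% he] at h'
      have hg : (K, S') ∈ Good a P := ⟨hS', h'⟩
      exact hxu (q_isUnit K S ((hmax hg (⟨le_rfl, le_sup_left⟩ : (K, S) ≤ (K, S'))).2 (Submonoid.mem_sup_right (Submonoid.mem_powers x))))
    · exact hnot h

end Zorn

end Groth.Agent.FieldPtLib
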